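import Cfsg.Agent.H613.KS.Defs

/-!
# S4577, rows of exceptional type: the weight lemma (helper988)

`D ≅ 2^4`, `y` a 5-element acting irreducibly on `D`, `V` a finite-dimensional module in characteristic `≠ 2`,
`m(t) = dim (V, -1)` for `t ∈ D`.

* `gens` : `D#` has three `y`-orbits, those of `a`, `a b`, `a c` where `b = a^y`, `c = b^y`, `d = c^y`, `d^y = a b c d`.
* `cover` : every `t ∈ D` is one of the 16 products.
* `orbit` : every `t ∈ D#` is `y^i`-conjugate to `a`, `a b` or `a c`.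
* `weights` : the dimensions of the weight spaces.
* `TR` : the trace formula (stub of the plan S4577).
-/

set_option autoImplicit false

namespace Cfsg.Agent.H988.KS.Weight

open Module Cfsg.Agent.H613.KS

/-! ### linear algebra -/

section Lin

variable {k V : Type*} [Field k] [AddCommGroup V] [Module k V]

/-- the sign of a truth value -/
def sg (k : Type*) [Field k] (p : Bool) : k := if p then -1 else 1

theorem sg_mul (p q : Bool) : sg k p * sg k q = sg k (p ^^ q) := by
  cases p <;> cases q <;> simp [sg]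

/-- the eigenspace of `A` with eigenvalue `sg p` -/
def eg (A : Module.End k V) (p : Bool) : Submodule k V where
  carrier := {v | A v = sg k p • v}
  add_mem' := by
    intro v w hv hw
    show A (v + w) = sg k p • (v + w)
    rw [map_add, smul_add]
    exact congrArg₂ _ hv hw
  zero_mem' := by
    show A 0 = sg k p • 0
    rw [map_zero, smul_zero]
  smul_mem' := by
    intro c v hv
    show A (c • v) = sg k p • c • v
    rw [map_smul, smul_comm (sg k p) c]
    exact congrArg _ hv

theorem mem_eg {A : Module.End k V} {p : Bool} {v : V} : v ∈ eg A p ↔ A v = sg k p • v := Iff.rfl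

theorem eg_ker (A : Module.End k V) : LinearMap.ker (A + 1) = eg A true := by
  ext v
  rw [mem_eg, LinearMap.mem_ker, LinearMap.add_apply, Module.End.one_apply, sg, if_pos rfl, neg_smul, one_smul,
    eq_neg_iff_add_eq_zero]

variable [FiniteDimensional k V]

/-- splitting an invariant subspace -/
theorem split (h2 : (2 : k) ≠ 0) {A : Module.End k V} (hA : A * A = 1) (W : Submodule k V) (hW : ∀ w ∈ W, A w ∈ W) :
    finrank k W = ∑ p : Bool, finrank k ↥(W ⊓ eg A p) := by
  have hAA : ∀ v, A (A v) = v := fun v => by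
    have := congrArg (fun f : Module.End k V => f v) hA
    exact this
  have h1 : (W ⊓ eg A false) ⊔ (W ⊓ eg A true) = W := by
    apply le_antisymm (sup_le inf_le_left inf_le_left)
    intro w hw
    have e : w = (2 : k)⁻¹ • (w + A w) + (2 : k)⁻¹ • (w - A w) := by
      rw [← smul_add, add_add_sub_cancel, ← two_smul k w, smul_smul, inv_mul_cancel₀ h2, one_smul]
    rw [e]
    refine Submodule.add_mem_sup ⟨W.smul_mem _ (W.add_mem hw (hW w hw)), ?_⟩
      ⟨W.smul_mem _ (W.sub_mem hw (hW w hw)), ?_⟩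
    · show A _ = (1 : k) • _
      rw [map_smul, map_add, hAA, one_smul, add_comm]
    · show A _ = (-1 : k) • _
      rw [map_smul, map_sub, hAA, neg_smul, one_smul, ← smul_neg, neg_sub]
  have h3 : (W ⊓ eg A false) ⊓ (W ⊓ eg A true) = ⊥ := by
    rw [eq_bot_iff]
    rintro v ⟨⟨-, hv1⟩, ⟨-, hv2⟩⟩
    have e1 : A v = (1 : k) • v := hv1
    have e2 : A v = (-1 : k) • v := hv2
    rw [one_smul] at e1
    rw [e1, neg_smul, one_smul] at e2
    have h4 : (2 : k) • v = 0 := by rw [two_smul]; exact eq_neg_iff_add_eq_zero.1 e2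
    exact (smul_eq_zero.1 h4).resolve_left h2
  have h5 := Submodule.finrank_sup_add_finrank_inf_eq (W ⊓ eg A false) (W ⊓ eg A true)
  rw [h1, h3, finrank_bot, add_zero] at h5
  rw [Fintype.sum_bool, add_comm]
  exact h5

omit [FiniteDimensional k V] in
theorem inv_eg {P Q : Module.End k V} (h : P * Q = Q * P) (p : Bool) : ∀ v ∈ eg P p, Q v ∈ eg P p := by
  intro v hv
  rw [mem_eg] at hv ⊢
  have h1 : P (Q v) = Q (P v) := congrArg (fun f : Module.End k V => f v) h
  rw [h1, hv, map_smul]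

/-- the joint eigenspaces of four operators -/
def eg4 (A B C E : Module.End k V) (p q r s : Bool) : Submodule k V := ((eg A p ⊓ eg B q) ⊓ eg C r) ⊓ eg E s

theorem split4 (h2 : (2 : k) ≠ 0) {A B C E : Module.End k V} (hA : A * A = 1) (hB : B * B = 1) (hC : C * C = 1)
    (hE : E * E = 1) (hAB : A * B = B * A) (hAC : A * C = C * A) (hBC : B * C = C * B) (hAE : A * E = E * A)
    (hBE : B * E = E * B) (hCE : C * E = E * C) (W : Submodule k V) (hWA : ∀ w ∈ W, A w ∈ W)
    (hWB : ∀ w ∈ W, B w ∈ W) (hWC : ∀ w ∈ W, C w ∈ W) (hWE : ∀ w ∈ W, E w ∈ W) :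
    finrank k W = ∑ p : Bool, ∑ q : Bool, ∑ r : Bool, ∑ s : Bool, finrank k ↥(W ⊓ eg4 A B C E p q r s) := by
  rw [split h2 hA W hWA]
  refine Finset.sum_congr rfl fun p _ => ?_
  rw [split h2 hB (W ⊓ eg A p) fun w hw => ⟨hWB w hw.1, inv_eg hAB p w hw.2⟩]
  refine Finset.sum_congr rfl fun q _ => ?_
  rw [split h2 hC (W ⊓ eg A p ⊓ eg B q) fun w hw => ⟨⟨hWC w hw.1.1, inv_eg hAC p w hw.1.2⟩, inv_eg hBC q w hw.2⟩]
  refine Finset.sum_congr rfl fun r _ => ?_
  rw [split h2 hE (W ⊓ eg A p ⊓ eg B q ⊓ eg C r) fun w hw =>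
    ⟨⟨⟨hWE w hw.1.1.1, inv_eg hAE p w hw.1.1.2⟩, inv_eg hBE q w hw.1.2⟩, inv_eg hCE r w hw.2⟩]
  refine Finset.sum_congr rfl fun s _ => ?_
  unfold eg4
  rw [← inf_assoc, ← inf_assoc, ← inf_assoc]

end Lin

/-! ### the elementary abelian group -/

section Grp

variable {G : Type*} [Group G] {D : Subgroup G} {y : G}

theorem comm16 (h : E16 D) {a b : G} (ha : a ∈ D) (hb : b ∈ D) : a * b = b * a := by
  have h1 := h.inv _ (D.mul_mem ha hb)
  have h2 := h.inv _ ha
  have h3 := h.inv _ hb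
  calc a * b = b * b * (a * b) * (a * a) := by rw [h3, h2]; group
    _ = b * (b * a * (b * a)) * a := by group
    _ = b * a := by rw [h.inv _ (D.mul_mem hb ha)]; group

/-- `y^5` centralises `D` -/
theorem pow_five (h : E16 D) (hy : Five D y) {a : G} (ha : a ∈ D) : y ^ 5 * a * (y ^ 5)⁻¹ = a := by
  classical
  have hfin : Finite D := Nat.finite_of_card_ne_zero (by rw [h.card]; norm_num)
  obtain ⟨M, hM⟩ := hy.five
  let f : D → D := fun d => ⟨y * d * y⁻¹, (hy.norm d).2 d.2⟩
  have hit : ∀ n : ℕ, ∀ d : D, ((f^[n] d : D) : G) = y ^ n * d * (y ^ n)⁻¹ := by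
    intro n
    induction n with
    | zero => intro d; simp
    | succ n ih =>
      intro d
      rw [Function.iterate_succ_apply', pow_succ']
      show y * ((f^[n] d : D) : G) * y⁻¹ = _
      rw [ih]
      group
  have hper : Function.IsPeriodicPt f (5 ^ M) ⟨a, ha⟩ := by
    show f^[5 ^ M] _ = _
    apply Subtype.ext
    rw [hit, ← hM, pow_orderOf_eq_one]
    simp
  have hdvd := hper.minimalPeriod_dvd
  obtain ⟨j, hj, hj'⟩ := (Nat.dvd_prime_pow Nat.prime_five).1 hdvd
  have hle : Function.minimalPeriod f ⟨a, ha⟩ ≤ 16 := by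
    have : Fintype D := Fintype.ofFinite D
    have h1 := Function.minimalPeriod_le_card (f := f) (x := ⟨a, ha⟩)
    rwa [← Nat.card_eq_fintype_card, h.card] at h1
  have hj1 : j ≤ 1 := by
    by_contra hc
    have h5 : 5 ^ 2 ≤ 5 ^ j := Nat.pow_le_pow_right (by norm_num) (by omega)
    rw [hj'] at hle
    omega
  have h5 : Function.IsPeriodicPt f 5 ⟨a, ha⟩ := by
    have h6 : Function.minimalPeriod f ⟨a, ha⟩ ∣ 5 := by
      rw [hj']
      exact (pow_dvd_pow 5 hj1).trans (by norm_num)
    exact (Function.isPeriodicPt_minimalPeriod f _).trans_dvd h6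
  have h7 := congrArg Subtype.val (show f^[5] ⟨a, ha⟩ = ⟨a, ha⟩ from h5)
  rwa [hit] at h7

/-- an element fixed by `y` is trivial -/
theorem eq_one_of_fixed (h : E16 D) (hy : Five D y) {a : G} (ha : a ∈ D) (hf : y * a * y⁻¹ = a) : a = 1 := by
  have h1 : ∀ b ∈ Subgroup.zpowers a, y * b * y⁻¹ ∈ Subgroup.zpowers a := by
    intro b hb
    obtain ⟨n, rfl⟩ := Subgroup.mem_zpowers_iff.1 hb
    rw [← conj_zpow, hf]
    exact Subgroup.zpow_mem_zpowers a n
  rcases hy.irr _ ((Subgroup.zpowers_le).2 ha) h1 with h2 | h2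
  · exact Subgroup.zpowers_eq_bot.1 h2
  · exfalso
    have h3 : Nat.card (Subgroup.zpowers a) = orderOf a := Nat.card_zpowers a
    rw [h2, h.card] at h3
    have h4 : orderOf a ∣ 2 := orderOf_dvd_of_pow_eq_one (by rw [pow_two]; exact h.inv a ha)
    have := Nat.le_of_dvd (by norm_num) h4
    omega

/-- **generators of `D`** -/
theorem gens (h : E16 D) (hy : Five D y) {a : G} (ha : a ∈ D) : ∃ b c d : G, b ∈ D ∧ c ∈ D ∧ d ∈ D ∧
    y * a * y⁻¹ = b ∧ y * b * y⁻¹ = c ∧ y * c * y⁻¹ = d ∧ y * d * y⁻¹ = a * b * c * d ∧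
    y * (a * b * c * d) * y⁻¹ = a := by
  have hb := (hy.norm a).2 ha
  have hc := (hy.norm _).2 hb
  have hd := (hy.norm _).2 hc
  have he := (hy.norm _).2 hd
  set b := y * a * y⁻¹ with hb'
  set c := y * b * y⁻¹ with hc'
  set d := y * c * y⁻¹ with hd'
  set e := y * d * y⁻¹ with he'
  have h5 : y * e * y⁻¹ = a := by
    have h6 := pow_five h hy ha
    calc y * e * y⁻¹ = y ^ 5 * a * (y ^ 5)⁻¹ := by
          rw [he', hd', hc', hb']
          simp only [pow_succ, pow_zero, one_mul, mul_inv_rev, mul_assoc]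
      _ = a := h6
  have hp : a * b * c * d * e = 1 := by
    refine eq_one_of_fixed h hy (mul_mem (mul_mem (mul_mem (mul_mem ha hb) hc) hd) he) ?_
    have e1 : y * (a * b * c * d * e) * y⁻¹ = b * c * d * e * a := by
      calc y * (a * b * c * d * e) * y⁻¹ =
          (y * a * y⁻¹) * (y * b * y⁻¹) * (y * c * y⁻¹) * (y * d * y⁻¹) * (y * e * y⁻¹) := by group
        _ = _ := by rw [h5]
    rw [e1, comm16 h (mul_mem (mul_mem (mul_mem hb hc) hd) he) ha]
    group
  have he2 : e = a * b * c * d := by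
    have h6 : a * b * c * d = e⁻¹ := eq_inv_of_mul_eq_one_left hp
    rw [h6]
    exact (inv_eq_of_mul_eq_one_left (h.inv e he)).symm
  exact ⟨b, c, d, hb, hc, hd, rfl, rfl, rfl, he2, by rw [← he2]; exact h5⟩

/-- the products of the generators -/
def pr (a b c d : G) (i j l n : Bool) : G :=
  (if i then a else 1) * (if j then b else 1) * (if l then c else 1) * (if n then d else 1)

theorem pr_mem {a b c d : G} (ha : a ∈ D) (hb : b ∈ D) (hc : c ∈ D) (hd : d ∈ D) (i j l n : Bool) :
    pr a b c d i j l n ∈ D := by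
  unfold pr
  refine mul_mem (mul_mem (mul_mem ?_ ?_) ?_) ?_ <;> split_ifs <;> first | assumption | exact one_mem D

theorem pr_mul (h : E16 D) {a b c d : G} (ha : a ∈ D) (hb : b ∈ D) (hc : c ∈ D) (hd : d ∈ D)
    (i j l n i' j' l' n' : Bool) :
    pr a b c d i j l n * pr a b c d i' j' l' n' = pr a b c d (i ^^ i') (j ^^ j') (l ^^ l') (n ^^ n') := by
  let _ : CommGroup D := { (inferInstance : Group D) with mul_comm := fun u v => Subtype.ext (comm16 h u.2 v.2) }
  have hsq : ∀ u : D, u * u = 1 := fun u => Subtype.ext (h.inv u u.2)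
  let A : D := ⟨a, ha⟩
  let B : D := ⟨b, hb⟩
  let C : D := ⟨c, hc⟩
  let E : D := ⟨d, hd⟩
  have hone : ∀ (u : D) (i i' : Bool), (if i then u else 1) * (if i' then u else 1) = if (i ^^ i') then u else 1 := by
    intro u i i'
    cases i <;> cases i' <;> simp [hsq]
  have key : ((if i then A else 1) * (if j then B else 1) * (if l then C else 1) * (if n then E else 1)) *
      ((if i' then A else 1) * (if j' then B else 1) * (if l' then C else 1) * (if n' then E else 1)) =
      (if (i ^^ i') then A else 1) * (if (j ^^ j') then B else 1) * (if (l ^^ l') then C else 1) *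
      (if (n ^^ n') then E else 1) := by
    rw [← hone A, ← hone B, ← hone C, ← hone E]
    rw [mul_mul_mul_comm, mul_mul_mul_comm ((if i then A else 1) * (if j then B else 1)),
      mul_mul_mul_comm (if i then A else 1)]
  have hcoe : ∀ (u : D) (i : Bool), (((if i then u else 1 : D)) : G) = if i then (u : G) else 1 := by
    intro u i
    cases i <;> simp
  have h1 := congrArg (Subtype.val) key
  rw [Subgroup.coe_mul, Subgroup.coe_mul, Subgroup.coe_mul, Subgroup.coe_mul, Subgroup.coe_mul, Subgroup.coe_mul,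
    Subgroup.coe_mul, Subgroup.coe_mul, Subgroup.coe_mul, Subgroup.coe_mul, hcoe, hcoe, hcoe, hcoe, hcoe, hcoe, hcoe,
    hcoe, hcoe, hcoe, hcoe, hcoe] at h1
  exact h1

/-- the cyclic shift of the exponents -/
def sh (x : Bool × Bool × Bool × Bool) : Bool × Bool × Bool × Bool :=
  (x.2.2.2, x.1 ^^ x.2.2.2, x.2.1 ^^ x.2.2.2, x.2.2.1 ^^ x.2.2.2)

/-- the product with exponents `x` -/
def P (a b c d : G) (x : Bool × Bool × Bool × Bool) : G := pr a b c d x.1 x.2.1 x.2.2.1 x.2.2.2

theorem P_sh (h : E16 D) {a b c d : G} (ha : a ∈ D) (hb : b ∈ D) (hc : c ∈ D) (hd : d ∈ D)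
    (h1 : y * a * y⁻¹ = b) (h2 : y * b * y⁻¹ = c) (h3 : y * c * y⁻¹ = d) (h4 : y * d * y⁻¹ = a * b * c * d)
    (x : Bool × Bool × Bool × Bool) : P a b c d (sh x) = y * P a b c d x * y⁻¹ := by
  obtain ⟨i, j, l, n⟩ := x
  show pr a b c d n (i ^^ n) (j ^^ n) (l ^^ n) = y * pr a b c d i j l n * y⁻¹
  have e1 : y * pr a b c d i j l n * y⁻¹ = pr a b c d false i j l * (if n then a * b * c * d else 1) := by
    unfold pr
    have e2 : ∀ (u v : G) (i : Bool), y * u * y⁻¹ = v → y * (if i then u else 1) * y⁻¹ = if i then v else 1 := by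
      intro u v i huv
      cases i <;> simp [huv]
    calc y * ((if i then a else 1) * (if j then b else 1) * (if l then c else 1) * (if n then d else 1)) * y⁻¹ =
        (y * (if i then a else 1) * y⁻¹) * (y * (if j then b else 1) * y⁻¹) * (y * (if l then c else 1) * y⁻¹) *
        (y * (if n then d else 1) * y⁻¹) := by group
      _ = _ := by
        rw [e2 _ _ i h1, e2 _ _ j h2, e2 _ _ l h3, e2 _ _ n h4]
        simp
  have e3 : (if n then a * b * c * d else 1) = pr a b c d n n n n := by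
    cases n <;> simp [pr]
  rw [e1, e3, pr_mul h ha hb hc hd]
  simp

theorem P_iter (h : E16 D) {a b c d : G} (ha : a ∈ D) (hb : b ∈ D) (hc : c ∈ D) (hd : d ∈ D)
    (h1 : y * a * y⁻¹ = b) (h2 : y * b * y⁻¹ = c) (h3 : y * c * y⁻¹ = d) (h4 : y * d * y⁻¹ = a * b * c * d)
    (x : Bool × Bool × Bool × Bool) (e : ℕ) : P a b c d (sh^[e] x) = y ^ e * P a b c d x * (y ^ e)⁻¹ := by
  induction e with
  | zero => simp
  | succ e ih =>
    rw [Function.iterate_succ_apply', P_sh h ha hb hc hd h1 h2 h3 h4, ih, pow_succ']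
    simp only [mul_inv_rev, mul_assoc]

/-- **every element of `D` is one of the products** -/
theorem cover (h : E16 D) (hy : Five D y) {a b c d : G} (ha : a ∈ D) (hb : b ∈ D) (hc : c ∈ D) (hd : d ∈ D)
    (h1 : y * a * y⁻¹ = b) (h2 : y * b * y⁻¹ = c) (h3 : y * c * y⁻¹ = d) (h4 : y * d * y⁻¹ = a * b * c * d)
    (ha1 : a ≠ 1) : ∀ t ∈ D, ∃ x, t = P a b c d x := by
  let A : Subgroup G :=
    { carrier := {t | ∃ x, t = P a b c d x}
      mul_mem' := by
        rintro _ _ ⟨x, rfl⟩ ⟨x', rfl⟩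
        exact ⟨(_, _, _, _), pr_mul h ha hb hc hd _ _ _ _ _ _ _ _⟩
      one_mem' := ⟨(false, false, false, false), by simp [P, pr]⟩
      inv_mem' := by
        rintro _ ⟨x, rfl⟩
        refine ⟨x, inv_eq_of_mul_eq_one_left ?_⟩
        unfold P
        rw [pr_mul h ha hb hc hd]
        simp [pr] }
  have hA : A ≤ D := by
    rintro _ ⟨x, rfl⟩
    exact pr_mem ha hb hc hd _ _ _ _
  rcases hy.irr A hA (by
    rintro _ ⟨x, rfl⟩
    exact ⟨sh x, (P_sh h ha hb hc hd h1 h2 h3 h4 x).symm⟩) with h5 | h5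
  · exfalso
    apply ha1
    have h6 : a ∈ A := ⟨(true, false, false, false), by simp [P, pr]⟩
    rw [h5] at h6
    exact Subgroup.mem_bot.1 h6
  · intro t ht
    rw [← h5] at ht
    exact ht

theorem masks : ∀ x : Bool × Bool × Bool × Bool, x ≠ (false, false, false, false) → ∃ e : Fin 5,
    x = sh^[e] (true, false, false, false) ∨ x = sh^[e] (true, true, false, false) ∨
      x = sh^[e] (true, false, true, false) := by decide

/-- every element of `D#` is `y^i`-conjugate to `a`, `a b` or `a c` -/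
theorem orbit (h : E16 D) (hy : Five D y) {a b c d : G} (ha : a ∈ D) (hb : b ∈ D) (hc : c ∈ D) (hd : d ∈ D)
    (h1 : y * a * y⁻¹ = b) (h2 : y * b * y⁻¹ = c) (h3 : y * c * y⁻¹ = d) (h4 : y * d * y⁻¹ = a * b * c * d)
    (ha1 : a ≠ 1) {t : G} (ht : t ∈ D) (ht1 : t ≠ 1) :
      (∃ e : ℕ, t = y ^ e * a * (y ^ e)⁻¹) ∨ (∃ e : ℕ, t = y ^ e * (a * b) * (y ^ e)⁻¹) ∨
      (∃ e : ℕ, t = y ^ e * (a * c) * (y ^ e)⁻¹) := by
  obtain ⟨x, rfl⟩ := cover h hy ha hb hc hd h1 h2 h3 h4 ha1 t ht
  have hx : x ≠ (false, false, false, false) := by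
    rintro rfl
    exact ht1 (by simp [P, pr])
  obtain ⟨e, he | he | he⟩ := masks x hx
  · refine Or.inl ⟨e, ?_⟩
    rw [he, P_iter h ha hb hc hd h1 h2 h3 h4]
    simp [P, pr]
  · refine Or.inr (Or.inl ⟨e, ?_⟩)
    rw [he, P_iter h ha hb hc hd h1 h2 h3 h4]
    simp [P, pr]
  · refine Or.inr (Or.inr ⟨e, ?_⟩)
    rw [he, P_iter h ha hb hc hd h1 h2 h3 h4]
    simp [P, pr]

/-- conjugation by `y^i` and `y^j` -/
theorem orb_trans (h : E16 D) (hy : Five D y) {t u v : G} (ht : t ∈ D) {i j : ℕ} (hu : u = y ^ i * t * (y ^ i)⁻¹)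
    (hv : v = y ^ j * t * (y ^ j)⁻¹) : ∃ e : ℕ, v = y ^ e * u * (y ^ e)⁻¹ := by
  have h5 : ∀ m : ℕ, y ^ (5 * m) * t * (y ^ (5 * m))⁻¹ = t := by
    intro m
    induction m with
    | zero => simp
    | succ m ih =>
      rw [Nat.mul_succ, pow_add, mul_inv_rev]
      calc y ^ (5 * m) * y ^ 5 * t * ((y ^ 5)⁻¹ * (y ^ (5 * m))⁻¹) =
          y ^ (5 * m) * (y ^ 5 * t * (y ^ 5)⁻¹) * (y ^ (5 * m))⁻¹ := by simp only [mul_assoc]
        _ = t := by rw [pow_five h hy ht, ih]
  refine ⟨j + 4 * i, ?_⟩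
  rw [hu, hv]
  have e1 : y ^ (j + 4 * i) * (y ^ i * t * (y ^ i)⁻¹) * (y ^ (j + 4 * i))⁻¹ =
      y ^ j * (y ^ (5 * i) * t * (y ^ (5 * i))⁻¹) * (y ^ j)⁻¹ := by
    rw [show 5 * i = 4 * i + i by ring, pow_add, pow_add]
    simp only [mul_inv_rev, mul_assoc]
  rw [e1, h5]

end Grp

/-! ### the dimensions -/

section Num

set_option maxHeartbeats 1000000 in
/-- the numbers (Fourier inversion) -/
theorem numbers (M w : Bool → Bool → Bool → Bool → ℤ)
    (H : ∀ i j l n, M i j l n = ∑ p : Bool, ∑ q : Bool, ∑ r : Bool, ∑ s : Bool,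
      if ((i && p) ^^ (j && q) ^^ (l && r) ^^ (n && s)) then w p q r s else 0)
    {m1 m2 m3 : ℤ}
    (a1 : M true false false false = m1) (a2 : M false true false false = m1) (a3 : M false false true false = m1) (a4 : M false false false true = m1) (a5 : M true true true true = m1) (b1 : M true true false false = m2) (b2 : M false true true false = m2) (b3 : M false false true true = m2) (b4 : M true true true false = m2) (b5 : M false true true true = m2) (c1 : M true false true false = m3) (c2 : M false true false true = m3) (c3 : M true true false true = m3) (c4 : M true false false true = m3) (c5 : M true false true true = m3) :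
    8 * w true true true false = 3 * m1 - m2 - m3 ∧
    8 * w true true false true = 3 * m1 - m2 - m3 ∧
    8 * w true false true true = 3 * m1 - m2 - m3 ∧
    8 * w false true true true = 3 * m1 - m2 - m3 ∧
    8 * w true true true true = 3 * m1 - m2 - m3 ∧
    8 * w false true false false = 3 * m2 - m1 - m3 ∧
    8 * w false false true false = 3 * m2 - m1 - m3 ∧
    8 * w true false true false = 3 * m2 - m1 - m3 ∧
    8 * w true false false true = 3 * m2 - m1 - m3 ∧
    8 * w false true false true = 3 * m2 - m1 - m3 ∧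
    8 * w true false false false = 3 * m3 - m1 - m2 ∧
    8 * w false false false true = 3 * m3 - m1 - m2 ∧
    8 * w true true false false = 3 * m3 - m1 - m2 ∧
    8 * w false true true false = 3 * m3 - m1 - m2 ∧
    8 * w false false true true = 3 * m3 - m1 - m2 := by
  rw [H] at a1 a2 a3 a4 a5 b1 b2 b3 b4 b5 c1 c2 c3 c4 c5
  simp only [Fintype.sum_bool, Bool.true_and, Bool.false_and, Bool.xor_false,
    Bool.xor_true, Bool.false_xor, Bool.not_true, Bool.not_false, if_true, if_false,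
    Bool.false_eq_true, add_zero, zero_add] at a1 a2 a3 a4 a5 b1 b2 b3 b4 b5 c1 c2 c3 c4 c5
  refine ⟨?_, ?_, ?_, ?_, ?_, ?_, ?_, ?_, ?_, ?_, ?_, ?_, ?_, ?_, ?_⟩
  · linear_combination a1 + a2 + a3 - a4 + a5 - b1 - b2 + b3 + b4 - b5 - c1 + c2 - c3 + c4 - c5
  · linear_combination a1 + a2 - a3 + a4 + a5 - b1 + b2 + b3 - b4 - b5 + c1 - c2 + c3 - c4 - c5
  · linear_combination a1 - a2 + a3 + a4 + a5 + b1 + b2 - b3 - b4 - b5 - c1 + c2 - c3 - c4 + c5
  · linear_combination - a1 + a2 + a3 + a4 + a5 + b1 - b2 - b3 - b4 + b5 + c1 - c2 - c3 + c4 - c5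
  · linear_combination a1 + a2 + a3 + a4 - a5 - b1 - b2 - b3 + b4 + b5 - c1 - c2 + c3 - c4 + c5
  · linear_combination - a1 + a2 - a3 - a4 + a5 + b1 + b2 - b3 + b4 + b5 - c1 + c2 + c3 - c4 - c5
  · linear_combination - a1 - a2 + a3 - a4 + a5 - b1 + b2 + b3 + b4 + b5 + c1 - c2 - c3 - c4 + c5
  · linear_combination a1 - a2 + a3 - a4 - a5 + b1 + b2 + b3 - b4 + b5 - c1 - c2 + c3 + c4 - c5
  · linear_combination a1 - a2 - a3 + a4 - a5 + b1 - b2 + b3 + b4 + b5 + c1 + c2 - c3 - c4 - c5
  · linear_combination - a1 + a2 - a3 + a4 - a5 + b1 + b2 + b3 + b4 - b5 - c1 - c2 - c3 + c4 + c5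
  · linear_combination a1 - a2 - a3 - a4 + a5 + b1 - b2 - b3 + b4 - b5 + c1 - c2 + c3 + c4 + c5
  · linear_combination - a1 - a2 - a3 + a4 + a5 - b1 - b2 + b3 - b4 + b5 - c1 + c2 + c3 + c4 + c5
  · linear_combination a1 + a2 - a3 - a4 - a5 - b1 + b2 - b3 - b4 + b5 + c1 + c2 - c3 + c4 + c5
  · linear_combination - a1 + a2 + a3 - a4 - a5 + b1 - b2 + b3 - b4 - b5 + c1 + c2 + c3 - c4 + c5
  · linear_combination - a1 - a2 + a3 + a4 - a5 - b1 + b2 - b3 + b4 - b5 + c1 + c2 + c3 + c4 - c5

theorem arith {m1 m2 m3 a1 a2 a3 : ℕ} (h1 : 8 * (a1 : ℤ) = 3 * (m1 : ℤ) - (m2 : ℤ) - (m3 : ℤ))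
    (h2 : 8 * (a2 : ℤ) = 3 * (m2 : ℤ) - (m1 : ℤ) - (m3 : ℤ)) (h3 : 8 * (a3 : ℤ) = 3 * (m3 : ℤ) - (m1 : ℤ) - (m2 : ℤ)) :
    m1 = 2 * ((a1 + a2 + a3) + a1) ∧ m2 = 2 * ((a1 + a2 + a3) + a2) ∧ m3 = 2 * ((a1 + a2 + a3) + a3) := by
  omega

theorem arith2 {u a : ℕ} {X : ℤ} (h : 8 * (u : ℤ) = X) (h' : 8 * (a : ℤ) = X) : u = a := by omega

end Num

section Main

variable {G : Type*} [Group G] {D : Subgroup G} {y : G}
variable {k V : Type*} [Field k] [AddCommGroup V] [Module k V]

/-- the dimension of the `(-1)`-eigenspace is invariant under conjugation -/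
theorem finrank_conj (ρ : G →* Module.End k V) (g t : G) :
    finrank k ↥(LinearMap.ker (ρ (g * t * g⁻¹) + 1)) = finrank k ↥(LinearMap.ker (ρ t + 1)) := by
  have c1 : ∀ v, ρ g (ρ g⁻¹ v) = v := fun v => by
    rw [← Module.End.mul_apply, ← map_mul, mul_inv_cancel, map_one]; rfl
  have c2 : ∀ v, ρ g⁻¹ (ρ g v) = v := fun v => by
    rw [← Module.End.mul_apply, ← map_mul, inv_mul_cancel, map_one]; rfl
  let e : V ≃ₗ[k] V := LinearEquiv.ofLinearMap (ρ g) (ρ g⁻¹) (LinearMap.ext c1) (LinearMap.ext c2)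
  have h1 : LinearMap.ker (ρ (g * t * g⁻¹) + 1) = (LinearMap.ker (ρ t + 1)).map (e : V →ₗ[k] V) := by
    ext v
    have h2 : v ∈ (LinearMap.ker (ρ t + 1)).map (e : V →ₗ[k] V) ↔ ρ g⁻¹ v ∈ LinearMap.ker (ρ t + 1) :=
      Submodule.mem_map_equiv _
    rw [h2, LinearMap.mem_ker, LinearMap.mem_ker, LinearMap.add_apply, LinearMap.add_apply, Module.End.one_apply,
      Module.End.one_apply, map_mul, map_mul, Module.End.mul_apply, Module.End.mul_apply]
    constructor
    · intro h
      have h3 := congrArg (ρ g⁻¹) h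
      rwa [map_add, c2, map_zero] at h3
    · intro h
      have h3 := congrArg (ρ g) h
      rwa [map_add, c1, map_zero] at h3
  rw [h1, LinearEquiv.finrank_map_eq]

/-- the action of a product on a joint eigenspace -/
theorem act (ρ : G →* Module.End k V) {a b c d : G} {p q r s : Bool} {v : V}
    (hv : v ∈ eg4 (ρ a) (ρ b) (ρ c) (ρ d) p q r s) (i j l n : Bool) :
    ρ (pr a b c d i j l n) v = sg k ((i && p) ^^ (j && q) ^^ (l && r) ^^ (n && s)) • v := by
  have one : ∀ (u : G) (i p : Bool), ρ u v = sg k p • v → ρ (if i then u else 1) v = sg k (i && p) • v := by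
    intro u i p h
    cases i
    · simp [sg]
    · simpa using h
  have ea := one a i p hv.1.1.1
  have eb := one b j q hv.1.1.2
  have ec := one c l r hv.1.2
  have ed := one d n s hv.2
  unfold pr
  rw [map_mul, map_mul, map_mul, Module.End.mul_apply, Module.End.mul_apply, Module.End.mul_apply, ed, map_smul,
    map_smul, map_smul, ec, map_smul, map_smul, eb, map_smul, ea, smul_smul, smul_smul, smul_smul, sg_mul, sg_mul,
    sg_mul]
  congr 2
  cases (i && p) <;> cases (j && q) <;> cases (l && r) <;> cases (n && s) <;> rfl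

variable [FiniteDimensional k V]

/-- **the dimensions of the `(-1)`-eigenspaces from the weight spaces** -/
theorem dims (h : E16 D) (h2 : (2 : k) ≠ 0) (ρ : G →* Module.End k V) {a b c d : G} (ha : a ∈ D) (hb : b ∈ D)
    (hc : c ∈ D) (hd : d ∈ D) :
    (finrank k V = ∑ p : Bool, ∑ q : Bool, ∑ r : Bool, ∑ s : Bool,
      finrank k ↥(eg4 (ρ a) (ρ b) (ρ c) (ρ d) p q r s)) ∧
    ∀ i j l n, finrank k ↥(LinearMap.ker (ρ (pr a b c d i j l n) + 1)) =
      ∑ p : Bool, ∑ q : Bool, ∑ r : Bool, ∑ s : Bool, if ((i && p) ^^ (j && q) ^^ (l && r) ^^ (n && s)) then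
        finrank k ↥(eg4 (ρ a) (ρ b) (ρ c) (ρ d) p q r s) else 0 := by
  have rsq : ∀ x ∈ D, ρ x * ρ x = 1 := fun x hx => by rw [← map_mul, h.inv x hx, map_one]
  have rcm : ∀ x ∈ D, ∀ y ∈ D, ρ x * ρ y = ρ y * ρ x := fun x hx y hy => by
    rw [← map_mul, comm16 h hx hy, map_mul]
  have hsp := fun (W : Submodule k V) (hW : ∀ x ∈ D, ∀ w ∈ W, ρ x w ∈ W) =>
    split4 h2 (rsq a ha) (rsq b hb) (rsq c hc) (rsq d hd) (rcm a ha b hb) (rcm a ha c hc) (rcm b hb c hc)
      (rcm a ha d hd) (rcm b hb d hd) (rcm c hc d hd) W (hW a ha) (hW b hb) (hW c hc) (hW d hd)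
  constructor
  · have h1 := hsp ⊤ fun _ _ _ _ => Submodule.mem_top
    rw [finrank_top] at h1
    rw [h1]
    refine Finset.sum_congr rfl fun p _ => Finset.sum_congr rfl fun q _ => Finset.sum_congr rfl fun r _ =>
      Finset.sum_congr rfl fun s _ => ?_
    rw [top_inf_eq]
  · intro i j l n
    have ht := pr_mem ha hb hc hd i j l n
    rw [hsp (LinearMap.ker (ρ (pr a b c d i j l n) + 1)) fun x hx w hw => by
      rw [eg_ker] at hw ⊢
      exact inv_eg (rcm _ ht x hx) true w hw]
    refine Finset.sum_congr rfl fun p _ => Finset.sum_congr rfl fun q _ => Finset.sum_congr rfl fun r _ =>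
      Finset.sum_congr rfl fun s _ => ?_
    rw [eg_ker]
    split_ifs with hp
    · have h3 : eg (ρ (pr a b c d i j l n)) true ⊓ eg4 (ρ a) (ρ b) (ρ c) (ρ d) p q r s =
          eg4 (ρ a) (ρ b) (ρ c) (ρ d) p q r s := by
        refine inf_eq_right.2 fun v hv => ?_
        show ρ (pr a b c d i j l n) v = sg k true • v
        rw [act ρ hv, hp]
      rw [h3]
    · have h3 : eg (ρ (pr a b c d i j l n)) true ⊓ eg4 (ρ a) (ρ b) (ρ c) (ρ d) p q r s = ⊥ := by
        rw [eq_bot_iff]
        rintro v ⟨hv1, hv2⟩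
        have hv1' : ρ (pr a b c d i j l n) v = sg k true • v := hv1
        rw [act ρ hv2, Bool.eq_false_iff.2 hp] at hv1'
        have e1 : v = -v := by simpa [sg] using hv1'
        have h5 : (2 : k) • v = 0 := by rw [two_smul]; exact eq_neg_iff_add_eq_zero.1 e1
        exact (smul_eq_zero.1 h5).resolve_left h2
      rw [h3, finrank_bot]

omit [FiniteDimensional k V] in
/-- the weight space of a homomorphism `l` -/
theorem weight_eq (h : E16 D) (hy : Five D y) (ρ : G →* Module.End k V) {a b c d : G} (ha : a ∈ D) (hb : b ∈ D)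
    (hc : c ∈ D) (hd : d ∈ D) (h1 : y * a * y⁻¹ = b) (h3 : y * b * y⁻¹ = c) (h4 : y * c * y⁻¹ = d)
    (h5 : y * d * y⁻¹ = a * b * c * d) (ha1 : a ≠ 1) (l : D →* ℤˣ) :
    (⨅ e : D, LinearMap.ker (ρ (e : G) - algebraMap k (Module.End k V) (((l e : ℤ)) : k))) =
      eg4 (ρ a) (ρ b) (ρ c) (ρ d) (decide (l ⟨a, ha⟩ = -1)) (decide (l ⟨b, hb⟩ = -1)) (decide (l ⟨c, hc⟩ = -1))
        (decide (l ⟨d, hd⟩ = -1)) := by
  have hsg : ∀ u : ℤˣ, sg k (decide (u = -1)) = ((u : ℤ) : k) := by
    intro u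
    rcases Int.units_eq_one_or u with rfl | rfl
    · rw [sg, if_neg (by decide)]; simp
    · rw [sg, if_pos (by decide)]; simp
  have hmem : ∀ (e : D) (v : V), v ∈ LinearMap.ker (ρ (e : G) - algebraMap k (Module.End k V) (((l e : ℤ)) : k)) ↔
      ρ (e : G) v = ((l e : ℤ) : k) • v := by
    intro e v
    rw [LinearMap.mem_ker, LinearMap.sub_apply, Module.algebraMap_end_apply, sub_eq_zero]
  ext v
  rw [Submodule.mem_iInf]
  constructor
  · intro hv
    have key : ∀ (u : G) (hu : u ∈ D), v ∈ eg (ρ u) (decide (l ⟨u, hu⟩ = -1)) := by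
      intro u hu
      rw [mem_eg, hsg]
      exact (hmem ⟨u, hu⟩ v).1 (hv ⟨u, hu⟩)
    exact ⟨⟨⟨key a ha, key b hb⟩, key c hc⟩, key d hd⟩
  · intro hv
    have key : ∀ (u : G) (hu : u ∈ D), v ∈ eg (ρ u) (decide (l ⟨u, hu⟩ = -1)) → ρ u v = ((l ⟨u, hu⟩ : ℤ) : k) • v := by
      intro u hu h6
      rw [mem_eg, hsg] at h6
      exact h6
    have ka := key a ha hv.1.1.1
    have kb := key b hb hv.1.1.2
    have kc := key c hc hv.1.2
    have kd := key d hd hv.2
    let A : Submonoid D :=
      { carrier := {e | ρ (e : G) v = ((l e : ℤ) : k) • v}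
        one_mem' := by
          show ρ ((1 : D) : G) v = ((l 1 : ℤ) : k) • v
          rw [OneMemClass.coe_one, map_one, map_one]
          simp
        mul_mem' := by
          intro e f he hf
          have he' : ρ (e : G) v = ((l e : ℤ) : k) • v := he
          have hf' : ρ (f : G) v = ((l f : ℤ) : k) • v := hf
          show ρ ((e * f : D) : G) v = ((l (e * f) : ℤ) : k) • v
          rw [MulMemClass.coe_mul, map_mul, Module.End.mul_apply, hf', map_smul, he', smul_smul, map_mul,
            Units.val_mul, Int.cast_mul, mul_comm] }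
    rintro ⟨e, he⟩
    rw [hmem]
    obtain ⟨x, rfl⟩ := cover h hy ha hb hc hd h1 h3 h4 h5 ha1 e he
    have hA : (⟨P a b c d x, he⟩ : D) ∈ A := by
      have e1 : (⟨P a b c d x, he⟩ : D) = (if x.1 then ⟨a, ha⟩ else 1) * (if x.2.1 then ⟨b, hb⟩ else 1) *
          (if x.2.2.1 then ⟨c, hc⟩ else 1) * (if x.2.2.2 then ⟨d, hd⟩ else 1) := by
        apply Subtype.ext
        have hcoe : ∀ (u : D) (i : Bool), (((if i then u else 1 : D)) : G) = if i then (u : G) else 1 := by
          intro u i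
          cases i <;> simp
        rw [Subgroup.coe_mul, Subgroup.coe_mul, Subgroup.coe_mul, hcoe, hcoe, hcoe, hcoe]
        rfl
      rw [e1]
      refine A.mul_mem (A.mul_mem (A.mul_mem ?_ ?_) ?_) ?_ <;> split_ifs <;>
        first | exact A.one_mem | exact ka | exact kb | exact kc | exact kd
    exact hA

/-- the numbers for `a`, `a b`, `a c` -/
theorem weights (h : E16 D) (h2 : (2 : k) ≠ 0) (ρ : G →* Module.End k V) {a b c d : G}
    (ha : a ∈ D) (hb : b ∈ D) (hc : c ∈ D) (hd : d ∈ D) (h1 : y * a * y⁻¹ = b) (h3 : y * b * y⁻¹ = c)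
    (h4 : y * c * y⁻¹ = d) (h5 : y * d * y⁻¹ = a * b * c * d) :
    ∃ A a1 a2 a3 : ℕ, finrank k ↥(LinearMap.ker (ρ a + 1)) = 2 * (A + a1) ∧
      finrank k ↥(LinearMap.ker (ρ (a * b) + 1)) = 2 * (A + a2) ∧
      finrank k ↥(LinearMap.ker (ρ (a * c) + 1)) = 2 * (A + a3) ∧ A = a1 + a2 + a3 ∧
      finrank k V = finrank k ↥(eg4 (ρ a) (ρ b) (ρ c) (ρ d) false false false false) + 5 * A ∧
      ∀ p q r s : Bool, (p, q, r, s) ≠ (false, false, false, false) →
        finrank k ↥(eg4 (ρ a) (ρ b) (ρ c) (ρ d) p q r s) ∈ ({a1, a2, a3} : Set ℕ) := by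
  obtain ⟨hV, hM⟩ := dims h h2 ρ ha hb hc hd
  set w : Bool → Bool → Bool → Bool → ℕ := fun p q r s => finrank k ↥(eg4 (ρ a) (ρ b) (ρ c) (ρ d) p q r s) with hw
  let M : Bool → Bool → Bool → Bool → ℕ := fun i j l n => finrank k ↥(LinearMap.ker (ρ (pr a b c d i j l n) + 1))
  have hsh : ∀ x : Bool × Bool × Bool × Bool, M (sh x).1 (sh x).2.1 (sh x).2.2.1 (sh x).2.2.2 =
      M x.1 x.2.1 x.2.2.1 x.2.2.2 := by
    intro x
    have e1 := P_sh h ha hb hc hd h1 h3 h4 h5 x
    exact (congrArg (fun t => finrank k ↥(LinearMap.ker (ρ t + 1))) e1).trans (finrank_conj ρ _ _)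
  have fm : ∀ {t u : G}, t = u → finrank k ↥(LinearMap.ker (ρ t + 1)) = finrank k ↥(LinearMap.ker (ρ u + 1)) :=
    fun h => congrArg (fun t => finrank k ↥(LinearMap.ker (ρ t + 1))) h
  have ta : finrank k ↥(LinearMap.ker (ρ a + 1)) = M true false false false :=
    fm (show a = pr a b c d true false false false by simp [pr])
  have tb : finrank k ↥(LinearMap.ker (ρ (a * b) + 1)) = M true true false false :=
    fm (show a * b = pr a b c d true true false false by simp [pr])
  have tc : finrank k ↥(LinearMap.ker (ρ (a * c) + 1)) = M true false true false :=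
    fm (show a * c = pr a b c d true false true false by simp [pr])
  have s1 : M false true false false = M true false false false := hsh (true, false, false, false)
  have s2 : M false false true false = M true false false false := (hsh (false, true, false, false)).trans s1
  have s3 : M false false false true = M true false false false := (hsh (false, false, true, false)).trans s2
  have s4 : M true true true true = M true false false false := (hsh (false, false, false, true)).trans s3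
  have t1 : M false true true false = M true true false false := hsh (true, true, false, false)
  have t2 : M false false true true = M true true false false := (hsh (false, true, true, false)).trans t1
  have t3 : M true true true false = M true true false false := (hsh (false, false, true, true)).trans t2
  have t4 : M false true true true = M true true false false := (hsh (true, true, true, false)).trans t3
  have u1 : M false true false true = M true false true false := hsh (true, false, true, false)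
  have u2 : M true true false true = M true false true false := (hsh (false, true, false, true)).trans u1
  have u3 : M true false false true = M true false true false := (hsh (true, true, false, true)).trans u2
  have u4 : M true false true true = M true false true false := (hsh (true, false, false, true)).trans u3
  have cz : ∀ {x y : ℕ}, x = y → (x : ℤ) = (y : ℤ) := fun h => by rw [h]
  have N := numbers (fun i j l n => (M i j l n : ℤ)) (fun p q r s => (w p q r s : ℤ)) (fun i j l n => by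
    show ((finrank k ↥(LinearMap.ker (ρ (pr a b c d i j l n) + 1)) : ℕ) : ℤ) = _
    rw [hM i j l n]
    push_cast
    rfl) rfl (cz s1) (cz s2) (cz s3) (cz s4) rfl (cz t1) (cz t2) (cz t3) (cz t4) rfl (cz u1) (cz u2) (cz u3) (cz u4)
  obtain ⟨n1, n2, n3, n4, n5, n6, n7, n8, n9, n10, n11, n12, n13, n14, n15⟩ := N
  have q1 := arith2 n1 n5
  have q2 := arith2 n2 n5
  have q3 := arith2 n3 n5
  have q4 := arith2 n4 n5
  have q6 := arith2 n6 n8
  have q7 := arith2 n7 n8
  have q9 := arith2 n9 n8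
  have q10 := arith2 n10 n8
  have q11 := arith2 n11 n13
  have q12 := arith2 n12 n13
  have q14 := arith2 n14 n13
  have q15 := arith2 n15 n13
  obtain ⟨r1, r2, r3⟩ := arith n5 n8 n13
  simp only [Fintype.sum_bool] at hV
  change finrank k V = ((w true true true true + w true true true false) + (w true true false true + w true true false false) +
    ((w true false true true + w true false true false) + (w true false false true + w true false false false))) +
    ((w false true true true + w false true true false) + (w false true false true + w false true false false) +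
    ((w false false true true + w false false true false) + (w false false false true + w false false false false))) at hV
  rw [q1, q2, q3, q4, q6, q7, q9, q10, q11, q12, q14, q15] at hV
  rw [ta, tb, tc]
  refine ⟨w true true true true + w true false true false + w true true false false, w true true true true,
    w true false true false, w true true false false, r1, r2, r3, rfl, ?_, ?_⟩
  · show finrank k V = w false false false false + _
    rw [hV]
    ring
  · intro p q r s hp
    show w p q r s ∈ _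
    simp only [Set.mem_insert_iff, Set.mem_singleton_iff]
    cases p <;> cases q <;> cases r <;> cases s <;> first | exact absurd rfl hp | exact Or.inl rfl | exact Or.inl (by assumption) | exact Or.inr (Or.inl rfl) | exact Or.inr (Or.inl (by assumption)) | exact Or.inr (Or.inr rfl) | exact Or.inr (Or.inr (by assumption))

/-- **TR: the trace formula** -/
theorem TR {S : Type*} [Group S] {D : Subgroup S} (h : E16 D) {y : S} (hy : Five D y)
    {k : Type*} [Field k] (h2 : (2 : k) ≠ 0) {V : Type*} [AddCommGroup V] [Module k V] [FiniteDimensional k V]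
    (ρ : S →* Module.End k V) {d1 d2 d3 : S} (h1 : d1 ∈ D) (h2' : d2 ∈ D) (h3 : d3 ∈ D) (n1 : d1 ≠ 1) (n2 : d2 ≠ 1)
    (n3 : d3 ≠ 1) (h12 : ∀ i : ℕ, d2 ≠ y ^ i * d1 * (y ^ i)⁻¹) (h13 : ∀ i : ℕ, d3 ≠ y ^ i * d1 * (y ^ i)⁻¹)
    (h23 : ∀ i : ℕ, d3 ≠ y ^ i * d2 * (y ^ i)⁻¹) :
    ∃ A a1 a2 a3 : ℕ, Module.finrank k ↥(LinearMap.ker (ρ d1 + 1)) = 2 * (A + a1) ∧
      Module.finrank k ↥(LinearMap.ker (ρ d2 + 1)) = 2 * (A + a2) ∧
      Module.finrank k ↥(LinearMap.ker (ρ d3 + 1)) = 2 * (A + a3) ∧ A = a1 + a2 + a3 ∧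
      Module.finrank k V = Module.finrank k ↥(⨅ d ∈ D, LinearMap.ker (ρ d - 1)) + 5 * A ∧
      (∀ l : D →* ℤˣ, l ≠ 1 → ∃ a ∈ ({a1, a2, a3} : Set ℕ),
        Module.finrank k ↥(⨅ d : D, LinearMap.ker (ρ (d : S) - algebraMap k _ (((l d : ℤ)) : k))) = a) := by
  obtain ⟨b, c, d, hb, hc, hd, e1, e2, e3, e4, e5⟩ := gens h hy h1
  obtain ⟨A, a1, a2, a3, w1, w2, w3, wA, wV, wl⟩ := weights h h2 ρ h1 hb hc hd e1 e2 e3 e4
  have hab := mul_mem h1 hb
  have hac := mul_mem h1 hc
  have hinv : (⨅ d ∈ D, LinearMap.ker (ρ d - 1)) = eg4 (ρ d1) (ρ b) (ρ c) (ρ d) false false false false := by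
    have h4 := weight_eq h hy ρ h1 hb hc hd e1 e2 e3 e4 n1 1
    have e6 : decide ((1 : ℤˣ) = -1) = false := by decide
    simp only [MonoidHom.one_apply, e6] at h4
    rw [← h4, iInf_subtype]
    refine iInf_congr fun i => iInf_congr fun _ => ?_
    simp
  have hwt : ∀ l : D →* ℤˣ, l ≠ 1 → ∃ a ∈ ({a1, a2, a3} : Set ℕ),
      Module.finrank k ↥(⨅ d : D, LinearMap.ker (ρ (d : S) - algebraMap k _ (((l d : ℤ)) : k))) = a := by
    intro l hl
    refine ⟨_, wl (decide (l ⟨d1, h1⟩ = -1)) (decide (l ⟨b, hb⟩ = -1)) (decide (l ⟨c, hc⟩ = -1))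
      (decide (l ⟨d, hd⟩ = -1)) ?_, ?_⟩
    · intro hcon
      apply hl
      rw [Prod.mk.injEq, Prod.mk.injEq, Prod.mk.injEq] at hcon
      obtain ⟨k1, k2, k3, k4⟩ := hcon
      have one : ∀ u : ℤˣ, decide (u = -1) = false → u = 1 := by decide
      have f1 := one _ k1
      have f2 := one _ k2
      have f3 := one _ k3
      have f4 := one _ k4
      ext ⟨e, he⟩
      obtain ⟨x, rfl⟩ := cover h hy h1 hb hc hd e1 e2 e3 e4 n1 e he
      have g1 : (⟨P d1 b c d x, he⟩ : D) = (if x.1 then ⟨d1, h1⟩ else 1) * (if x.2.1 then ⟨b, hb⟩ else 1) *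
          (if x.2.2.1 then ⟨c, hc⟩ else 1) * (if x.2.2.2 then ⟨d, hd⟩ else 1) := by
        apply Subtype.ext
        have hcoe : ∀ (u : D) (i : Bool), (((if i then u else 1 : D)) : S) = if i then (u : S) else 1 := by
          intro u i
          cases i <;> simp
        rw [Subgroup.coe_mul, Subgroup.coe_mul, Subgroup.coe_mul, hcoe, hcoe, hcoe, hcoe]
        rfl
      have g2 : ∀ (u : D) (i : Bool), l u = 1 → l (if i then u else 1) = 1 := by
        intro u i hu
        cases i
        · simp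
        · simpa using hu
      rw [g1, map_mul, map_mul, map_mul, g2 _ _ f1, g2 _ _ f2, g2 _ _ f3, g2 _ _ f4]
      simp
    · rw [weight_eq h hy ρ h1 hb hc hd e1 e2 e3 e4 n1 l]
  have hm : ∀ (u t : S) (e : ℕ), u = y ^ e * t * (y ^ e)⁻¹ → finrank k ↥(LinearMap.ker (ρ u + 1)) =
      finrank k ↥(LinearMap.ker (ρ t + 1)) := by
    rintro u t e rfl
    exact finrank_conj ρ _ _
  rcases orbit h hy h1 hb hc hd e1 e2 e3 e4 n1 h2' n2 with ⟨i, hi⟩ | ⟨i, hi⟩ | ⟨i, hi⟩
  · exact absurd hi (h12 i)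
  · rcases orbit h hy h1 hb hc hd e1 e2 e3 e4 n1 h3 n3 with ⟨j, hj⟩ | ⟨j, hj⟩ | ⟨j, hj⟩
    · exact absurd hj (h13 j)
    · obtain ⟨e, he⟩ := orb_trans h hy hab hi hj
      exact absurd he (h23 e)
    · refine ⟨A, a1, a2, a3, w1, ?_, ?_, wA, ?_, hwt⟩
      · rw [hm _ _ _ hi, w2]
      · rw [hm _ _ _ hj, w3]
      · rw [hinv]; exact wV
  · rcases orbit h hy h1 hb hc hd e1 e2 e3 e4 n1 h3 n3 with ⟨j, hj⟩ | ⟨j, hj⟩ | ⟨j, hj⟩
    · exact absurd hj (h13 j)
    · refine ⟨A, a1, a3, a2, w1, ?_, ?_, by omega, ?_, ?_⟩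
      · rw [hm _ _ _ hi, w3]
      · rw [hm _ _ _ hj, w2]
      · rw [hinv]; exact wV
      · intro l hl
        obtain ⟨a, ha, hal⟩ := hwt l hl
        refine ⟨a, ?_, hal⟩
        simp only [Set.mem_insert_iff, Set.mem_singleton_iff] at ha ⊢
        tauto
    · obtain ⟨e, he⟩ := orb_trans h hy hac hi hj
      exact absurd he (h23 e)

end Main

end Cfsg.Agent.H988.KS.Weight
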